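import Cfsg.Agent.Lib.CoprimeAction.Basic

/-!
A coprime action that is "fixed-point-free modulo the fixed points of the whole group" yields a
fixed-point-free action on a section.
-/

set_option autoImplicit false

open scoped commutatorElement

namespace CfsgLib.ElementOrders

universe u

/-- `A ⊔ B` is solvable if both are and `B` normalises `A`. -/
theorem isSolvable_sup_of_le_normalizer {G : Type*} [Group G] {A B : Subgroup G}
    (hA : Group.IsSolvable A) (hB : Group.IsSolvable B) (hn : B ≤ Subgroup.normalizer (A : Set G)) :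
    Group.IsSolvable ↥(A ⊔ B) := by
  have : (A.subgroupOf (A ⊔ B)).Normal :=
    Subgroup.normal_subgroupOf_of_le_normalizer (sup_le Subgroup.le_normalizer hn)
  rw [Group.isSolvable_iff_subgroup_quotient (A.subgroupOf (A ⊔ B))]
  refine ⟨Group.isSolvable_of_surjective
    (f := (Subgroup.subgroupOfEquivOfLe (le_sup_left : A ≤ A ⊔ B)).symm.toMonoidHom) (MulEquiv.surjective _), ?_⟩
  refine Group.isSolvable_of_surjective
    (f := (QuotientGroup.mk' (A.subgroupOf (A ⊔ B))).comp (Subgroup.inclusion le_sup_right : B →* ↥(A ⊔ B))) ?_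
  intro z
  obtain ⟨⟨x, hx⟩, rfl⟩ := QuotientGroup.mk'_surjective _ z
  obtain ⟨a, ha, b, hb, rfl⟩ : ∃ a ∈ A, ∃ b ∈ B, a * b = x := by
    have h1 : x ∈ (↑(A ⊔ B) : Set G) := hx
    rwa [Subgroup.coe_mul_of_right_le_normalizer_left A B hn] at h1
  refine ⟨⟨b, hb⟩, QuotientGroup.eq.2 ?_⟩
  rw [Subgroup.mem_subgroupOf]
  show b⁻¹ * (a * b) ∈ A
  rw [show b⁻¹ * (a * b) = b⁻¹ * a * b⁻¹⁻¹ by group]
  exact (Subgroup.mem_normalizer_iff.1 (hn (B.inv_mem hb)) a).1 ha

/-- If `H` acts coprimely on `L`, nontrivially, centralises `[L, L]`, and every fixed point of a nonidentity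
element is fixed by all of `H`, then `H` acts fixed-point-freely on some nontrivial group. -/
theorem exists_fpf_of_factor {G : Type u} [Group G] [Finite G] {H L : Subgroup G} [L.Normal]
    (hOc : (Nat.card L).Coprime (Nat.card H))
    (hD : ∀ h ∈ H, h ≠ 1 → ∀ o ∈ L, Commute h o → o ∈ Subgroup.centralizer (H : Set G))
    (hM : H ≤ Subgroup.centralizer ((⁅L, L⁆ : Subgroup G) : Set G)) (hL : ¬ H ≤ Subgroup.centralizer (L : Set G)) :
    ∃ (W : Type u) (_ : Group W) (_ : Finite W) (_ : Nontrivial W) (φ : H →* MulAut W),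
      ∀ h : H, h ≠ 1 → ∀ w : W, φ h w = w → w = 1 := by
  classical
  set M : Subgroup G := ⁅L, L⁆ with hMdef
  have hML : M ≤ L := Subgroup.commutator_le_self L
  have hMn : M.Normal := by rw [hMdef]; infer_instance
  let π := QuotientGroup.mk' M
  let V := L.map π
  have hVn : V.Normal := (inferInstance : L.Normal).map π (QuotientGroup.mk'_surjective M)
  let iV : CommGroup V := { (inferInstance : Group V) with
    mul_comm := by
      rintro ⟨_, x, hx, rfl⟩ ⟨_, y, hy, rfl⟩
      refine Subtype.ext ?_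
      show π x * π y = π y * π x
      have h1 : π ⁅x, y⁆ = 1 := (QuotientGroup.eq_one_iff ⁅x, y⁆).2 (Subgroup.commutator_mem_commutator hx hy)
      rw [commutatorElement_def, map_mul, map_mul, map_mul, map_inv, map_inv] at h1
      exact mul_inv_eq_iff_eq_mul.1 (mul_inv_eq_one.1 h1) }
  let ρ : H →* MulAut V := MulAut.conjNormal.comp (π.comp H.subtype)
  let _ : Fintype H := Fintype.ofFinite H
  let ψ : V →* V := MonoidHom.mk' (fun v => ∏ h : H, ρ h v) fun a b => by
    simp only [map_mul]; exact Finset.prod_mul_distrib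
  have hψ : ∀ (k : H) (v : V), ψ (ρ k v) = ψ v := fun k v => by
    show ∏ h : H, ρ h (ρ k v) = ∏ h : H, ρ h v
    refine Fintype.prod_equiv (Equiv.mulRight k) _ _ fun h => ?_
    show ρ h (ρ k v) = ρ (h * k) v
    rw [map_mul]; rfl
  let W := ψ.ker
  have hWinv : ∀ (k : H) (w : W), ρ k (w : V) ∈ W := fun k w => by
    rw [MonoidHom.mem_ker, hψ]; exact w.2
  let f : H → MulAut W := fun k =>
    { toFun := fun w => ⟨ρ k w, hWinv k w⟩
      invFun := fun w => ⟨ρ k⁻¹ w, hWinv k⁻¹ w⟩
      left_inv := fun w => Subtype.ext (by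
        show ρ k⁻¹ (ρ k (w : V)) = w
        rw [← MulAut.mul_apply, ← map_mul, inv_mul_cancel, map_one]; rfl)
      right_inv := fun w => Subtype.ext (by
        show ρ k (ρ k⁻¹ (w : V)) = w
        rw [← MulAut.mul_apply, ← map_mul, mul_inv_cancel, map_one]; rfl)
      map_mul' := fun a b => Subtype.ext (map_mul (ρ k) (a : V) (b : V)) }
  let φ : H →* MulAut W := MonoidHom.mk' f fun a b => MulEquiv.ext fun w => Subtype.ext (by
    show ρ (a * b) (w : V) = ρ a (ρ b (w : V))
    rw [map_mul]; rfl)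
  have hcV : (Nat.card V).Coprime (Nat.card H) :=
    hOc.coprime_dvd_left ((Subgroup.card_map_dvd _ π).trans (Subgroup.card_dvd_of_le le_rfl))
  have : Nontrivial W := by
    rw [Subgroup.nontrivial_iff_ne_bot]
    intro hbot
    have hinj : Function.Injective ψ := (MonoidHom.ker_eq_bot_iff ψ).1 hbot
    refine hL (CfsgLib.CoprimeAction.le_centralizer_of_series hML
      ((hOc.coprime_dvd_left (Subgroup.card_dvd_of_le (hML.trans le_rfl))).symm) hM fun a ha k hk => ?_)
    have h1 : ρ ⟨a, ha⟩ ⟨π k, k, hk, rfl⟩ = ⟨π k, k, hk, rfl⟩ := hinj (hψ _ _)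
    have h2 : π a * π k * (π a)⁻¹ = π k := congrArg Subtype.val h1
    rw [← QuotientGroup.eq_one_iff]
    show π (k⁻¹ * (a * k * a⁻¹)) = 1
    rw [map_mul, map_inv, map_mul, map_mul, map_inv, h2, inv_mul_cancel]
  refine ⟨W, inferInstance, inferInstance, inferInstance, φ, ?_⟩
  rintro ⟨h, hh⟩ h1 ⟨⟨_, l, hl, rfl⟩, hw⟩ hfix
  have h1' : h ≠ 1 := fun e => h1 (Subtype.ext e)
  have hfix' : π h * π l * (π h)⁻¹ = π l := congrArg (fun z : W => ((z : V) : G ⧸ M)) hfix
  have hz : Subgroup.zpowers h ≤ H := Subgroup.zpowers_le.2 hh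
  obtain ⟨c, hc, hcM⟩ := CfsgLib.CoprimeAction.exists_centralizer_mem_coset_of_le
    (A := Subgroup.zpowers h) (N := M) (K := L) (by rw [Subgroup.normalizer_eq_top]; exact le_top) hML
    ((hOc.coprime_dvd_left (Subgroup.card_dvd_of_le (hML.trans le_rfl))).coprime_dvd_right
      (Subgroup.card_dvd_of_le hz)).symm
    (Or.inl (CfsgLib.CoprimeAction.isSolvable_zpowers h)) hl (fun b hb => by
      obtain ⟨i, rfl⟩ := hb
      rw [← QuotientGroup.eq_one_iff]
      show π (l⁻¹ * (h ^ i * l * (h ^ i)⁻¹)) = 1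
      have hcm : Commute (π h) (π l) := mul_inv_eq_iff_eq_mul.1 hfix'
      rw [map_mul, map_inv, map_mul, map_mul, map_inv, map_zpow, (hcm.zpow_left i).eq, mul_inv_cancel_right,
        inv_mul_cancel])
  have hcH := hD h hh h1' c hc.1 (Subgroup.mem_centralizer_iff.1 hc.2 h (Subgroup.mem_zpowers h))
  have hπc : π c = π l := by
    have h3 : π (l⁻¹ * c) = 1 := (QuotientGroup.eq_one_iff _).2 hcM
    rw [map_mul, map_inv] at h3
    exact (inv_mul_eq_one.1 h3).symm
  set v : V := ⟨π l, l, hl, rfl⟩ with hv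
  have hall : ∀ k : H, ρ k v = v := fun k => Subtype.ext (by
    show π k * π l * (π k)⁻¹ = π l
    rw [← hπc, ← map_mul, Subgroup.mem_centralizer_iff.1 hcH k k.2, map_mul, mul_inv_cancel_right])
  have hp : v ^ Nat.card H = 1 := by
    have h4 : ψ v = 1 := hw
    rw [← h4]
    show _ = ∏ k : H, ρ k v
    rw [Finset.prod_congr rfl fun k _ => hall k, Finset.prod_const, Finset.card_univ, Nat.card_eq_fintype_card]
  exact Subtype.ext (orderOf_eq_one_iff.1 (Nat.eq_one_of_dvd_one (hcV.gcd_eq_one ▸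
    Nat.dvd_gcd (orderOf_dvd_natCard v) (orderOf_dvd_of_pow_eq_one hp))))

end CfsgLib.ElementOrders
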