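import Mathlib

/-!
Splitting of an element of a finite group of order `a * b` (`a`, `b` coprime) into its commuting
`a`-part and `b`-part.
-/

namespace CfsgLib.ElementOrders

variable {G : Type*} [Group G]

/-- An exponent which is `1` modulo `a` and `0` modulo `b`. -/
noncomputable def splitExp {a b : ℕ} (hab : a.Coprime b) : ℕ :=
  (Nat.chineseRemainder hab 1 0 : ℕ)

theorem splitExp_left {a b : ℕ} (hab : a.Coprime b) : splitExp hab ≡ 1 [MOD a] :=
  (Nat.chineseRemainder hab 1 0).2.1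

theorem splitExp_right {a b : ℕ} (hab : a.Coprime b) : splitExp hab ≡ 0 [MOD b] :=
  (Nat.chineseRemainder hab 1 0).2.2

theorem pow_eq_of_modEq {g : G} {a k l : ℕ} (hg : g ^ a = 1) (h : k ≡ l [MOD a]) :
    g ^ k = g ^ l :=
  pow_eq_pow_iff_modEq.2 (h.of_dvd (orderOf_dvd_of_pow_eq_one hg))

theorem pow_splitExp_of_left {a b : ℕ} (hab : a.Coprime b) {g : G} (hg : g ^ a = 1) :
    g ^ splitExp hab = g := by
  simpa using pow_eq_of_modEq hg (splitExp_left hab)

theorem pow_splitExp_of_right {a b : ℕ} (hab : a.Coprime b) {g : G} (hg : g ^ b = 1) :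
    g ^ splitExp hab = 1 := by
  simpa using pow_eq_of_modEq hg (splitExp_right hab)

theorem pow_splitExp_pow {a b : ℕ} (hab : a.Coprime b) {g : G} (hg : g ^ (a * b) = 1) :
    (g ^ splitExp hab) ^ a = 1 := by
  obtain ⟨t, ht⟩ := (Nat.modEq_zero_iff_dvd).1 (splitExp_right hab)
  rw [← pow_mul, ht, show b * t * a = a * b * t by ring, pow_mul, hg, one_pow]

theorem pow_splitExp_mul {a b : ℕ} (hab : a.Coprime b) {g : G} (hg : g ^ (a * b) = 1) :
    g ^ splitExp hab * g ^ splitExp hab.symm = g := by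
  rw [← pow_add]
  have h : splitExp hab + splitExp hab.symm ≡ 1 [MOD a * b] :=
    (Nat.modEq_and_modEq_iff_modEq_mul hab).1
      ⟨by simpa using (splitExp_left hab).add (splitExp_right hab.symm),
       by simpa using (splitExp_right hab).add (splitExp_left hab.symm)⟩
  simpa using pow_eq_of_modEq hg h

theorem sigma_centralizer_ext {P : G → Prop} {Q : ∀ y : G, Subgroup.centralizer ({y} : Set G) → Prop}
    (q q' : Σ y : {y : G // P y}, {x : Subgroup.centralizer ({(y : G)} : Set G) // Q y x})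
    (h1 : (q.1 : G) = q'.1)
    (h2 : ((q.2 : Subgroup.centralizer ({(q.1 : G)} : Set G)) : G) =
      ((q'.2 : Subgroup.centralizer ({(q'.1 : G)} : Set G)) : G)) : q = q' := by
  obtain ⟨⟨y, hy⟩, ⟨⟨x, hxc⟩, hx⟩⟩ := q
  obtain ⟨⟨y', hy'⟩, ⟨⟨x', hxc'⟩, hx'⟩⟩ := q'
  simp only at h1 h2
  subst h1
  subst h2
  rfl

/-- Every element of a group of order `a * b` (coprime factors) is uniquely `x * y` with
`x ^ a = 1`, `y ^ b = 1` and `x` centralising `y`. -/
noncomputable def splitEquiv {a b : ℕ} (hab : a.Coprime b) (hG : ∀ g : G, g ^ (a * b) = 1) :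
    G ≃ Σ y : {y : G // y ^ b = 1},
      {x : Subgroup.centralizer ({(y : G)} : Set G) // x ^ a = 1} where
  toFun g := ⟨⟨g ^ splitExp hab.symm, pow_splitExp_pow hab.symm (by rw [mul_comm]; exact hG g)⟩,
    ⟨⟨g ^ splitExp hab, by
      rw [Subgroup.mem_centralizer_singleton_iff]
      exact (Commute.pow_pow_self g _ _).eq⟩, Subtype.ext (pow_splitExp_pow hab (hG g))⟩⟩
  invFun p := ((p.2 : Subgroup.centralizer ({(p.1 : G)} : Set G)) : G) * (p.1 : G)
  left_inv g := pow_splitExp_mul hab (hG g)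
  right_inv := by
    rintro ⟨⟨y, hy⟩, ⟨⟨x, hxc⟩, hx⟩⟩
    have hx' : x ^ a = 1 := congrArg Subtype.val hx
    have hc : Commute x y := Subgroup.mem_centralizer_singleton_iff.1 hxc
    have e1 : (x * y) ^ splitExp hab.symm = y := by
      rw [hc.mul_pow, pow_splitExp_of_right hab.symm hx', pow_splitExp_of_left hab.symm hy, one_mul]
    have e2 : (x * y) ^ splitExp hab = x := by
      rw [hc.mul_pow, pow_splitExp_of_right hab hy, pow_splitExp_of_left hab hx', mul_one]
    exact sigma_centralizer_ext (P := fun y => y ^ b = 1) (Q := fun _ x => x ^ a = 1) _ _ e1 e2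

end CfsgLib.ElementOrders

namespace CfsgLib.ElementOrders

variable {G : Type*} [Group G]

/-- For a Hall number `m` of a set `π` of primes, the `π`-elements are the solutions of `g ^ m = 1`. -/
theorem pow_eq_one_iff_piElement [Finite G] {π : Set ℕ} {m : ℕ} (hm : m ∣ Nat.card G)
    (hmπ : ∀ q : ℕ, q.Prime → q ∣ m → q ∈ π) (hm' : ∀ q ∈ π, ¬ q ∣ Nat.card G / m) (g : G) :
    g ^ m = 1 ↔ ∀ q : ℕ, q.Prime → q ∣ orderOf g → q ∈ π := by
  rw [← orderOf_dvd_iff_pow_eq_one]
  refine ⟨fun h q hq hqd => hmπ q hq (hqd.trans h), fun h => ?_⟩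
  have hcop : (orderOf g).Coprime (Nat.card G / m) :=
    Nat.coprime_of_dvd fun q hq h1 h2 => hm' q (h q hq h1) h2
  exact hcop.dvd_of_dvd_mul_right (by rw [Nat.mul_div_cancel' hm]; exact orderOf_dvd_natCard g)

theorem coprime_hall {n m : ℕ} {π : Set ℕ} (hmπ : ∀ q : ℕ, q.Prime → q ∣ m → q ∈ π)
    (hm' : ∀ q ∈ π, ¬ q ∣ n / m) : m.Coprime (n / m) :=
  Nat.coprime_of_dvd fun q hq h1 h2 => hm' q (hmπ q hq h1) h2

end CfsgLib.ElementOrders
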