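import Mathlib
import Cfsg.Agent.Lib.ElementOrders.PiPart

/-!
Frobenius counting: `|G|_p` divides the number of `p`-elements; more generally, if `|G| = a * b`
with coprime factors then `a` divides the number of solutions of `g ^ a = 1`.
-/

namespace CfsgLib.ElementOrders

open scoped Classical

variable {G : Type*} [Group G]

/-- A subgroup's solutions of `x ^ P = 1` are the same as those for the divisor `P'` that it allows. -/
theorem pow_eq_one_iff_gcd [Finite G] (x : G) (n : ℕ) :
    x ^ n = 1 ↔ x ^ Nat.gcd n (Nat.card G) = 1 := by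
  rw [← orderOf_dvd_iff_pow_eq_one, ← orderOf_dvd_iff_pow_eq_one, Nat.dvd_gcd_iff,
    and_iff_left (orderOf_dvd_natCard x)]

theorem gcd_ordProj {p n k : ℕ} (hp : p.Prime) (hk : k ≠ 0) (hn : n ≠ 0) (hkn : k ∣ n) :
    Nat.gcd (ordProj[p] n) k = ordProj[p] k := by
  refine Nat.dvd_antisymm ?_ (Nat.dvd_gcd (Nat.ordProj_dvd_ordProj_of_dvd hn hkn p)
    (Nat.ordProj_dvd k p))
  obtain ⟨i, -, hi⟩ := (Nat.dvd_prime_pow hp).1 (Nat.gcd_dvd_left (ordProj[p] n) k)
  rw [hi]
  exact pow_dvd_pow p ((hp.pow_dvd_iff_le_factorization hk).1 (hi ▸ Nat.gcd_dvd_right _ _))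

theorem card_centralizer_conj (g y : G) :
    Nonempty (Subgroup.centralizer ({y} : Set G) ≃*
      Subgroup.centralizer ({g * y * g⁻¹} : Set G)) := by
  have h : (Subgroup.centralizer ({y} : Set G)).map (MulAut.conj g).toMonoidHom =
      Subgroup.centralizer ({g * y * g⁻¹} : Set G) := by
    ext z
    simp only [Subgroup.mem_map, MulEquiv.coe_toMonoidHom, MulAut.conj_apply,
      Subgroup.mem_centralizer_singleton_iff]
    constructor
    · rintro ⟨x, hx, rfl⟩
      calc g * x * g⁻¹ * (g * y * g⁻¹) = g * (x * y) * g⁻¹ := by group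
        _ = g * (y * x) * g⁻¹ := by rw [hx]
        _ = g * y * g⁻¹ * (g * x * g⁻¹) := by group
    · intro hz
      refine ⟨g⁻¹ * z * g, ?_, by group⟩
      calc g⁻¹ * z * g * y = g⁻¹ * (z * (g * y * g⁻¹)) * g := by group
        _ = g⁻¹ * (g * y * g⁻¹ * z) * g := by rw [hz]
        _ = y * (g⁻¹ * z * g) := by group
  exact ⟨((MulEquiv.subgroupMap (MulAut.conj g) _).trans (MulEquiv.subgroupCongr h))⟩

theorem ncard_conj_class_mul_card_centralizer [Finite G] (y : G) :
    (ConjClasses.mk y).carrier.ncard * Nat.card (Subgroup.centralizer ({y} : Set G)) =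
      Nat.card G := by
  rw [← ConjAct.orbit_eq_carrier_conjClasses, Subgroup.nat_card_centralizer_nat_card_stabilizer,
    ← MulAction.index_stabilizer, Subgroup.index_mul_card]
  exact Nat.card_congr ConjAct.toConjAct.toEquiv.symm

/-- Sum over a conjugation-invariant set of a class function that, at each element, is divisible by
the `p`-part of the centraliser order. -/
theorem ordProj_dvd_sum_of_centralizer [Fintype G] {p : ℕ} (hp : p.Prime) (Y : Finset G)
    (hY : ∀ y ∈ Y, ∀ g : G, g * y * g⁻¹ ∈ Y) (F : G → ℕ)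
    (hF : ∀ y g : G, F (g * y * g⁻¹) = F y)
    (hdvd : ∀ y ∈ Y, ordProj[p] (Nat.card (Subgroup.centralizer ({y} : Set G))) ∣ F y) :
    ordProj[p] (Nat.card G) ∣ ∑ y ∈ Y, F y := by
  rw [← Finset.sum_fiberwise_of_maps_to (t := Y.image ConjClasses.mk)
    (fun y hy => Finset.mem_image_of_mem _ hy) F]
  refine Finset.dvd_sum fun C hC => ?_
  obtain ⟨y, hy, rfl⟩ := Finset.mem_image.1 hC
  have hfib : (↑(Y.filter fun z => ConjClasses.mk z = ConjClasses.mk y) : Set G) =
      (ConjClasses.mk y).carrier := by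
    ext z
    simp only [Finset.coe_filter, Set.mem_setOf_eq, ConjClasses.mem_carrier_iff_mk_eq,
      and_iff_right_iff_imp]
    intro hz
    obtain ⟨g, rfl⟩ := isConj_iff.1 (ConjClasses.mk_eq_mk_iff_isConj.1 hz.symm)
    exact hY y hy g
  rw [Finset.sum_congr rfl (g := fun _ => F y) ?_, Finset.sum_const, ← Set.ncard_coe_finset, hfib,
    smul_eq_mul]
  · have h := ncard_conj_class_mul_card_centralizer y
    rw [← h, Nat.ordProj_mul p
      (fun h0 => by rw [h0, zero_mul] at h; exact Nat.card_pos.ne' h.symm) Nat.card_pos.ne']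
    exact mul_dvd_mul (Nat.ordProj_dvd _ _) (hdvd y hy)
  · intro z hz
    obtain ⟨g, rfl⟩ := isConj_iff.1
      (ConjClasses.mk_eq_mk_iff_isConj.1 (Finset.mem_filter.1 hz).2.symm)
    exact hF y g

theorem card_pow_eq_one_congr {H : Type*} [Group H] (e : G ≃* H) (n : ℕ) :
    Nat.card {x : G // x ^ n = 1} = Nat.card {x : H // x ^ n = 1} :=
  Nat.card_congr (e.toEquiv.subtypeEquiv fun x => by
    rw [show (e.toEquiv x) = e x from rfl, ← map_pow, MulEquiv.map_eq_one_iff])

theorem card_centralizer_pow_eq_one_conj (n : ℕ) (g y : G) :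
    Nat.card {x : Subgroup.centralizer ({g * y * g⁻¹} : Set G) // x ^ n = 1} =
      Nat.card {x : Subgroup.centralizer ({y} : Set G) // x ^ n = 1} :=
  (card_pow_eq_one_congr (card_centralizer_conj g y).some n).symm

theorem pow_card_pow_split [Finite G] {a b : ℕ} (h : a * b = Nat.card G) (g : G) :
    g ^ (a * b) = 1 := by
  rw [h]; exact pow_card_eq_one'

/-- Restricting the Frobenius count to centralisers of the elements of an invariant set. -/
theorem ordProj_dvd_sum_centralizer_count [Fintype G] {p : ℕ} (hp : p.Prime) (Y : Finset G)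
    (hY : ∀ y ∈ Y, ∀ g : G, g * y * g⁻¹ ∈ Y)
    (hdvd : ∀ y ∈ Y, ordProj[p] (Nat.card (Subgroup.centralizer ({y} : Set G))) ∣
      Nat.card {x : Subgroup.centralizer ({y} : Set G) //
        x ^ ordProj[p] (Nat.card (Subgroup.centralizer ({y} : Set G))) = 1}) :
    ordProj[p] (Nat.card G) ∣
      ∑ y ∈ Y, Nat.card {x : Subgroup.centralizer ({y} : Set G) //
        x ^ ordProj[p] (Nat.card G) = 1} := by
  refine ordProj_dvd_sum_of_centralizer hp Y hY _
    (fun y g => card_centralizer_pow_eq_one_conj _ g y) fun y hy => ?_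
  rw [Nat.card_congr (Equiv.subtypeEquivRight fun x => pow_eq_one_iff_gcd x _),
    gcd_ordProj hp Nat.card_pos.ne' Nat.card_pos.ne' (Subgroup.card_subgroup_dvd_card _)]
  exact hdvd y hy

/-- Frobenius: the `p`-part of `|G|` divides the number of `p`-elements. -/
theorem ordProj_dvd_card_pow_ordProj_eq_one [Finite G] (p : ℕ) (hp : p.Prime) :
    ordProj[p] (Nat.card G) ∣ Nat.card {g : G // g ^ ordProj[p] (Nat.card G) = 1} := by
  induction hn : Nat.card G using Nat.strong_induction_on generalizing G with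
  | _ n IH =>
  subst hn
  let _ : Fintype G := Fintype.ofFinite G
  have hn0 : Nat.card G ≠ 0 := Nat.card_pos.ne'
  set P := ordProj[p] (Nat.card G) with hP
  set m := ordCompl[p] (Nat.card G) with hm
  have hPm : P * m = Nat.card G := Nat.ordProj_mul_ordCompl_eq_self _ p
  have hcop : P.Coprime m := (Nat.coprime_ordCompl hp hn0).pow_left _
  have htot : Nat.card G = ∑ y : {y : G // y ^ m = 1},
      Nat.card {x : Subgroup.centralizer ({(y : G)} : Set G) // x ^ P = 1} := by
    rw [← Nat.card_sigma]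
    exact Nat.card_congr (splitEquiv hcop (pow_card_pow_split hPm))
  let F : G → ℕ := fun y => Nat.card {x : Subgroup.centralizer ({y} : Set G) // x ^ P = 1}
  let S : Finset G := Finset.univ.filter fun y => y ^ m = 1
  have htot' : Nat.card G = ∑ y ∈ S, F y := by
    rw [htot]
    exact (Finset.sum_subtype S (fun y => by simp [S]) F).symm
  rw [← Finset.sum_filter_add_sum_filter_not S (fun y => y ∈ Subgroup.center G) F] at htot'
  set Z0 := S.filter fun y => y ∈ Subgroup.center G with hZ0
  have hcen : ∀ y ∈ Z0, F y = Nat.card {g : G // g ^ P = 1} := fun y hy => by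
    have : Subgroup.centralizer ({y} : Set G) = ⊤ :=
      Subgroup.centralizer_eq_top_iff_subset.2 (Set.singleton_subset_iff.2 (Finset.mem_filter.1 hy).2)
    exact card_pow_eq_one_congr ((MulEquiv.subgroupCongr this).trans Subgroup.topEquiv) P
  have hnon : P ∣ ∑ y ∈ S.filter (fun y => ¬ y ∈ Subgroup.center G), F y := by
    refine ordProj_dvd_sum_centralizer_count hp _ (fun y hy g => ?_) fun y hy => ?_
    · obtain ⟨hyS, hyc⟩ := Finset.mem_filter.1 hy
      refine Finset.mem_filter.2 ⟨?_, fun h => hyc ?_⟩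
      · have h1 : y ^ m = 1 := by simpa [S] using hyS
        simp [S, conj_pow, h1]
      · have h1 := (Subgroup.center G).mul_mem h (Subgroup.one_mem _)
        simpa [mul_assoc] using (inferInstance : (Subgroup.center G).Normal).conj_mem _ h g⁻¹
    · refine IH _ ?_ rfl
      rcases lt_or_eq_of_le (Subgroup.card_le_card_group (Subgroup.centralizer ({y} : Set G))) with h | h
      · exact h
      · exact absurd (Set.singleton_subset_iff.1 (Subgroup.centralizer_eq_top_iff_subset.1
          ((Subgroup.card_eq_iff_eq_top _).1 h))) (Finset.mem_filter.1 hy).2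
  rw [Finset.sum_congr rfl hcen, Finset.sum_const, smul_eq_mul] at htot'
  have hdvd : P ∣ Z0.card * Nat.card {g : G // g ^ P = 1} :=
    (Nat.dvd_add_left hnon).1 (htot' ▸ Nat.ordProj_dvd _ _)
  refine Nat.Coprime.dvd_of_dvd_mul_left ?_ hdvd
  refine Nat.Coprime.pow_left _ (hp.coprime_iff_not_dvd.2 fun hd => ?_)
  -- the central solutions of `y ^ m = 1` form a subgroup of order prime to `p`
  let W : Subgroup G :=
    { carrier := {y : G | y ∈ Subgroup.center G ∧ y ^ m = 1}
      one_mem' := ⟨one_mem _, one_pow _⟩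
      mul_mem' := fun {a b} ha hb => ⟨mul_mem ha.1 hb.1, by
        rw [Commute.mul_pow ((Subgroup.mem_center_iff.1 ha.1 b).symm), ha.2, hb.2, one_mul]⟩
      inv_mem' := fun {a} ha => ⟨inv_mem ha.1, by rw [inv_pow, ha.2, inv_one]⟩ }
  have hW : Nat.card W = Z0.card := by
    rw [← Nat.card_eq_finsetCard]
    exact Nat.card_congr (Equiv.subtypeEquivRight fun y => by simp [W, Z0, S, and_comm])
  have : Fact p.Prime := ⟨hp⟩
  obtain ⟨z, hz⟩ := exists_prime_orderOf_dvd_card' (G := W) p (hW ▸ hd)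
  have : (z : G) ^ m = 1 := z.2.2
  rw [← orderOf_dvd_iff_pow_eq_one, Subgroup.orderOf_coe, hz] at this
  exact (Nat.coprime_ordCompl hp hn0 |> fun h => hp.coprime_iff_not_dvd.1 h) this

/-- Frobenius' theorem for a Hall number `a` of `|G|`. -/
theorem dvd_card_pow_eq_one [Finite G] {a b : ℕ} (hab : a.Coprime b) (hG : a * b = Nat.card G) :
    a ∣ Nat.card {g : G // g ^ a = 1} := by
  let _ : Fintype G := Fintype.ofFinite G
  have hn0 : Nat.card G ≠ 0 := Nat.card_pos.ne'
  have ha0 : a ≠ 0 := fun h => hn0 (by rw [← hG, h, zero_mul])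
  have hb0 : b ≠ 0 := fun h => hn0 (by rw [← hG, h, mul_zero])
  refine (Nat.dvd_iff_prime_pow_dvd_dvd _ _).2 fun p k hp hk => ?_
  rcases k.eq_zero_or_pos with rfl | hkpos
  · simp
  have hpb : ¬ p ∣ b := fun h => hp.one_lt.ne'
    (Nat.eq_one_of_dvd_one ((hab.gcd_eq_one) ▸ Nat.dvd_gcd ((dvd_pow_self p hkpos.ne').trans hk) h))
  have hPa : ordProj[p] (Nat.card G) = ordProj[p] a := by
    rw [← hG, Nat.ordProj_mul p ha0 hb0, Nat.factorization_eq_zero_of_not_dvd hpb, pow_zero, mul_one]
  refine (pow_dvd_pow p ((hp.pow_dvd_iff_le_factorization ha0).1 hk)).trans ?_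
  rw [← hPa]
  set P := ordProj[p] (Nat.card G) with hP
  set m := ordCompl[p] (Nat.card G) with hm
  have hPm : P * m = Nat.card G := Nat.ordProj_mul_ordCompl_eq_self _ p
  have hcop : P.Coprime m := (Nat.coprime_ordCompl hp hn0).pow_left _
  have hPdvd : P ∣ a := hPa ▸ Nat.ordProj_dvd a p
  let S : Finset G := Finset.univ.filter fun y => y ^ m = 1 ∧ y ^ a = 1
  suffices h : Nat.card {g : G // g ^ a = 1} =
      ∑ y ∈ S, Nat.card {x : Subgroup.centralizer ({y} : Set G) // x ^ P = 1} by
    rw [h]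
    refine ordProj_dvd_sum_centralizer_count hp S (fun y hy g => ?_)
      fun y _ => ordProj_dvd_card_pow_ordProj_eq_one p hp
    obtain ⟨h1, h2⟩ := (Finset.mem_filter.1 hy).2
    simp [S, conj_pow, h1, h2]
  let E := splitEquiv hcop (pow_card_pow_split (G := G) hPm)
  have hiff : ∀ g : G, g ^ a = 1 ↔ ((E g).1 : G) ^ a = 1 := fun g => by
    refine ⟨fun h => ?_, fun h => ?_⟩
    · show (g ^ splitExp hcop.symm) ^ a = 1
      rw [← pow_mul, mul_comm, pow_mul, h, one_pow]
    · obtain ⟨c, hc⟩ := hPdvd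
      rw [← pow_splitExp_mul hcop (pow_card_pow_split hPm g),
        (Commute.pow_pow_self g _ _).mul_pow]
      rw [show (g ^ splitExp hcop.symm) ^ a = 1 from h, mul_one, hc, pow_mul,
        pow_splitExp_pow hcop (pow_card_pow_split hPm g), one_pow]
  calc Nat.card {g : G // g ^ a = 1}
      = Nat.card (Σ y : {y : {y : G // y ^ m = 1} // (y : G) ^ a = 1},
          {x : Subgroup.centralizer ({((y : {y : G // y ^ m = 1}) : G)} : Set G) // x ^ P = 1}) :=
        Nat.card_congr ((E.subtypeEquiv hiff).trans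
          (Equiv.subtypeSigmaEquiv (fun y : {y : G // y ^ m = 1} =>
            {x : Subgroup.centralizer ({(y : G)} : Set G) // x ^ P = 1})
            (fun y => (y : G) ^ a = 1)))
    _ = ∑ y : {y : G // y ^ m = 1 ∧ y ^ a = 1},
          Nat.card {x : Subgroup.centralizer ({(y : G)} : Set G) // x ^ P = 1} := by
        rw [← Nat.card_sigma]
        exact Nat.card_congr (Equiv.sigmaCongrLeft (β := fun y : {y : G // y ^ m = 1 ∧ y ^ a = 1} =>
          {x : Subgroup.centralizer ({(y : G)} : Set G) // x ^ P = 1})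
          (Equiv.subtypeSubtypeEquivSubtypeInter (fun y : G => y ^ m = 1) (fun y => y ^ a = 1)))
    _ = _ := (Finset.sum_subtype (p := fun y => y ^ m = 1 ∧ y ^ a = 1) S (fun y => by simp [S])
        fun y : G => Nat.card {x : Subgroup.centralizer ({y} : Set G) // x ^ P = 1}).symm

/-- Frobenius: `|G|_p` divides the number of elements of `p`-power order. -/
theorem card_sylow_dvd_card_pElements [Finite G] {p : ℕ} [Fact p.Prime] (P : Sylow p G) :
    Nat.card (P : Subgroup G) ∣ Nat.card {g : G // ∃ k : ℕ, orderOf g = p ^ k} := by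
  have hp : p.Prime := Fact.out
  rw [P.card_eq_multiplicity]
  refine (ordProj_dvd_card_pow_ordProj_eq_one p hp).trans (dvd_of_eq ?_)
  refine Nat.card_congr (Equiv.subtypeEquivRight fun g => ?_)
  rw [← orderOf_dvd_iff_pow_eq_one, Nat.dvd_prime_pow hp]
  refine ⟨fun ⟨k, _, hk⟩ => ⟨k, hk⟩, fun ⟨k, hk⟩ => ⟨k, ?_, hk⟩⟩
  exact (hp.pow_dvd_iff_le_factorization Nat.card_pos.ne').1 (hk ▸ orderOf_dvd_natCard g)

end CfsgLib.ElementOrders
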